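import Groth.Agent.AbsAbh.DvrEtale
import Groth.Agent.AbsAbh.Divisible
import Groth.Agent.TameAbh.GaloisTame

/-!
# Killing ramification of a Galois cover by a root of a uniformiser
-/

set_option autoImplicit false
set_option backward.isDefEq.respectTransparency false

universe u

open IsLocalRing
open scoped TensorProduct

namespace Groth.Agent.RootExt

variable {K₀ E : Type u} [Field K₀] [CommRing E] [Algebra K₀ E] [Algebra.Etale K₀ E] {G : Type*} [Group G]
  (ρ : G →* (E ≃ₐ[K₀] E))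
  (htrans : ∀ (Ω : Type u) [Field Ω] [IsAlgClosed Ω] [Algebra K₀ Ω] (a b : E →ₐ[K₀] Ω),
    ∃ g : G, b = a.comp (ρ g).toAlgHom)

include htrans in
/-- Residue fields of a Galois algebra are Galois. -/
theorem galois_factor {L : Type u} [Field L] [Algebra K₀ L] (φ : E →ₐ[K₀] L) (hφ : Function.Surjective φ) :
    FiniteDimensional K₀ L ∧ IsGalois K₀ L ∧ Nat.card (L ≃ₐ[K₀] L) ∣ Nat.card G := by
  classical
  haveI : Module.Finite K₀ E := Algebra.FormallyUnramified.finite_of_free K₀ E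
  haveI : FiniteDimensional K₀ L := Module.Finite.of_surjective φ.toLinearMap hφ
  haveI : Algebra.FormallyUnramified K₀ L := Algebra.FormallyUnramified.of_surjective φ hφ
  haveI : Algebra.IsSeparable K₀ L := Algebra.FormallyUnramified.isSeparable K₀ L
  let Ω := AlgebraicClosure L
  let ι : L →ₐ[K₀] Ω := IsScalarTower.toAlgHom K₀ L Ω
  have hex : ∀ b : L →ₐ[K₀] Ω, ∃ τ : L →ₐ[K₀] L, b = ι.comp τ := fun b => by
    obtain ⟨g, hg⟩ := htrans Ω (ι.comp φ) (b.comp φ)
    have hmem : ∀ l : L, b l ∈ ι.range := fun l => by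
      obtain ⟨e, rfl⟩ := hφ l
      exact ⟨φ (ρ g e), (AlgHom.congr_fun hg e).symm⟩
    refine ⟨(AlgEquiv.ofInjective ι ι.toRingHom.injective).symm.toAlgHom.comp (b.codRestrict _ hmem),
      AlgHom.ext fun l => ?_⟩
    exact (congrArg Subtype.val ((AlgEquiv.ofInjective ι ι.toRingHom.injective).apply_symm_apply ⟨b l, hmem l⟩)).symm
  have hinjι : Function.Injective ι := ι.toRingHom.injective
  haveI : IsGalois K₀ L := by
    refine IsGalois.of_card_aut_eq_finrank K₀ L ?_
    rw [← AlgHom.card K₀ L Ω, ← Nat.card_eq_fintype_card]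
    refine Nat.card_eq_of_bijective (fun τ : L ≃ₐ[K₀] L => ι.comp τ.toAlgHom) ⟨fun a b h => ?_, fun b => ?_⟩
    · exact AlgEquiv.ext fun l => hinjι (AlgHom.congr_fun h l)
    · obtain ⟨τ, rfl⟩ := hex b
      exact ⟨AlgEquiv.ofBijective τ (Algebra.IsAlgebraic.algHom_bijective τ), rfl⟩
  refine ⟨inferInstance, inferInstance, ?_⟩
  let H : Subgroup G :=
    { carrier := {g | ∃ τ : L ≃ₐ[K₀] L, ∀ e, φ (ρ g e) = τ (φ e)}
      one_mem' := ⟨1, fun e => by simp⟩
      mul_mem' := fun {a b} ⟨τ, hτ⟩ ⟨τ', hτ'⟩ => ⟨τ * τ', fun e => by simp [hτ, hτ']⟩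
      inv_mem' := fun {a} ⟨τ, hτ⟩ => ⟨τ⁻¹, fun e => by
        have h := hτ (ρ a⁻¹ e)
        rw [← AlgEquiv.mul_apply, ← map_mul, mul_inv_cancel, map_one, AlgEquiv.one_apply] at h
        exact (τ.symm_apply_eq.2 h).symm⟩ }
  choose θ hθ using fun g : H => g.2
  have huniq : ∀ (g : H) (τ : L ≃ₐ[K₀] L), (∀ e, φ (ρ g e) = τ (φ e)) → θ g = τ := fun g τ h =>
    AlgEquiv.ext fun l => by
      obtain ⟨e, rfl⟩ := hφ l
      rw [← hθ, h]
  let Θ : H →* (L ≃ₐ[K₀] L) := MonoidHom.mk' θ fun a b => huniq _ _ fun e => by simp [hθ]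
  have hsurj : Function.Surjective Θ := fun τ => by
    obtain ⟨g, hg⟩ := htrans Ω (ι.comp φ) ((ι.comp τ.toAlgHom).comp φ)
    have hge : ∀ e, φ (ρ g e) = τ (φ e) := fun e => (hinjι (AlgHom.congr_fun hg e)).symm
    exact ⟨⟨g, τ, hge⟩, huniq _ τ hge⟩
  exact (Subgroup.card_dvd_of_surjective Θ hsurj).trans (Subgroup.card_subgroup_dvd_card H)

include htrans in
/-- After adjoining an `n`-th root of a uniformiser, `n` the order of the group, all ramification is gone. -/
theorem unramFactors_root {A₀ S K : Type u} [CommRing A₀] [IsDomain A₀] [IsDiscreteValuationRing A₀]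
    [Algebra A₀ K₀] [IsFractionRing A₀ K₀]
    [CommRing S] [IsDomain S] [IsDiscreteValuationRing S] [Algebra A₀ S] [IsLocalHom (algebraMap A₀ S)]
    [Field K] [Algebra S K] [IsFractionRing S K] [Algebra K₀ K]
    (hinj : Function.Injective (algebraMap A₀ S))
    (hc : (algebraMap K₀ K).comp (algebraMap A₀ K₀) = (algebraMap S K).comp (algebraMap A₀ S))
    (hn : ((Nat.card G : ℕ) : ResidueField A₀) ≠ 0) (π : A₀) (hπ : Irreducible π) (t : S) (ht : Irreducible t)
    (hπt : algebraMap A₀ S π = t ^ Nat.card G) :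
    AbsAbh.UnramFactors S K (K ⊗[K₀] E) := by
  intro M _ _ _ _ φ hφ
  haveI : Module.Finite K₀ E := Algebra.FormallyUnramified.finite_of_free K₀ E
  letI : Algebra K₀ M := ((algebraMap K M).comp (algebraMap K₀ K)).toAlgebra
  haveI : IsScalarTower K₀ K M := IsScalarTower.of_algebraMap_eq fun _ => rfl
  let χ : E →ₐ[K₀] M := (φ.restrictScalars K₀).comp Algebra.TensorProduct.includeRight
  let q := RingHom.ker χ.toRingHom
  haveI : q.IsPrime := RingHom.ker_isPrime _
  haveI : IsArtinianRing E := isArtinian_of_tower K₀ inferInstance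
  haveI : q.IsMaximal := IsArtinianRing.isMaximal_of_isPrime q
  letI : Field (E ⧸ q) := Ideal.Quotient.field q
  obtain ⟨hfin, hgal, hdvd⟩ := galois_factor ρ htrans (Ideal.Quotient.mkₐ K₀ q) (Ideal.Quotient.mkₐ_surjective K₀ q)
  haveI := hfin
  haveI := hgal
  letI : Algebra A₀ (E ⧸ q) := ((algebraMap K₀ (E ⧸ q)).comp (algebraMap A₀ K₀)).toAlgebra
  haveI : IsScalarTower A₀ K₀ (E ⧸ q) := IsScalarTower.of_algebraMap_eq fun _ => rfl
  let φL : (E ⧸ q) →ₐ[K₀] M := Ideal.Quotient.liftₐ q χ fun a ha => ha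
  have hcard : ((Nat.card ((E ⧸ q) ≃ₐ[K₀] (E ⧸ q)) : ℕ) : ResidueField A₀) ≠ 0 := by
    obtain ⟨c, hcd⟩ := hdvd
    intro h0
    exact hn (by rw [hcd, Nat.cast_mul, h0, zero_mul])
  refine AbsAbh.unram_of_divisible (A₀ := A₀) (K₀ := K₀) (L := E ⧸ q) hinj φL.toRingHom ?_ ?_
    (TameAbh.isTamelyRamified_of_galois hcard) (Nat.card G) hn (fun V hV => ?_) π hπ t ht 1 1
    (by rw [Units.val_one, one_mul, mul_one, hπt])
  · refine RingHom.ext fun a => ?_
    show φL (algebraMap K₀ (E ⧸ q) (algebraMap A₀ K₀ a)) = algebraMap K M (algebraMap S K (algebraMap A₀ S a))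
    rw [φL.commutes]
    exact congrArg (algebraMap K M) (RingHom.congr_fun hc a)
  · refine eq_top_iff.2 fun m hm => ?_
    clear hm
    obtain ⟨z, rfl⟩ := hφ m
    induction z using TensorProduct.induction_on with
    | zero => rw [map_zero]; exact zero_mem _
    | tmul x e =>
      have hxe : φ (x ⊗ₜ[K₀] e) = algebraMap K M x * φL (Ideal.Quotient.mk q e) := by
        have h1 : (x ⊗ₜ[K₀] e : K ⊗[K₀] E) = algebraMap K (K ⊗[K₀] E) x * ((1 : K) ⊗ₜ[K₀] e) := by
          rw [Algebra.TensorProduct.algebraMap_apply, Algebra.TensorProduct.tmul_mul_tmul]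
          simp
        rw [h1, map_mul, φ.commutes]
        rfl
      rw [hxe]
      exact mul_mem (Subfield.subset_closure (Or.inr ⟨x, rfl⟩)) (Subfield.subset_closure (Or.inl ⟨_, rfl⟩))
    | add y z hy hz => rw [map_add]; exact add_mem hy hz
  · letI : Algebra A₀ V := (RingHom.codRestrict (algebraMap A₀ (E ⧸ q)) V hV.1).toAlgebra
    haveI : IsLocalHom (algebraMap A₀ V) := EtRamTower.isLocalHom_codRestrict _ _ hV
    haveI := TameAbh.isDVR_of_dominates (A := A₀) (K := K₀) V hV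
    exact ((TameAbh.galois_efg (A := A₀) (K := K₀) V fun _ => rfl).1).trans hdvd

end Groth.Agent.RootExt
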