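import Groth.Agent.RootExt.Stalk
import Groth.Agent.RootExt.Algebra
import Groth.Agent.S0287
import Groth.Agent.TameAbh.Root
import Groth.Prelude.Def_SGA1

/-!
# Extension of a Galois cover after extracting a root of a uniformiser
-/

set_option autoImplicit false
set_option backward.isDefEq.respectTransparency false

universe u

open CategoryTheory CategoryTheory.Limits AlgebraicGeometry IsLocalRing
open scoped TensorProduct

namespace Groth.Agent.RootExt

/-- The fibre of a Galois cover over a field-valued point is a Galois algebra. -/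
theorem exists_algebra {X : Scheme.{u}} (Xt : FEt.Cat X) {K₀ : Type u} [Field K₀]
    (g : Spec (CommRingCat.of K₀) ⟶ X)
    (hgal : ∀ (Ω : Type u) [Field Ω] [IsAlgClosed Ω] (ξ : Spec (CommRingCat.of Ω) ⟶ X) (s s' : FEt.fiberObj ξ Xt),
      ∃ σ : Aut Xt, (FEt.fiber ξ).map σ.hom s = s') :
    ∃ (E : Type u) (_ : CommRing E) (_ : Algebra K₀ E) (_ : Algebra.Etale K₀ E) (ρ : Aut Xt →* (E ≃ₐ[K₀] E)),
      (∀ (Ω : Type u) [Field Ω] [IsAlgClosed Ω] [Algebra K₀ Ω] (a b : E →ₐ[K₀] Ω),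
        ∃ σ : Aut Xt, b = a.comp (ρ σ).toAlgHom) ∧
      ∃ i : Spec (CommRingCat.of E) ⟶ Xt.left,
        IsPullback i (Spec.map (CommRingCat.ofHom (algebraMap K₀ E))) Xt.hom g := by
  let Z := pullback Xt.hom g
  let w : Z ⟶ Spec (CommRingCat.of K₀) := pullback.snd Xt.hom g
  haveI : IsFinite w := MorphismProperty.pullback_snd _ _ Xt.prop.1
  haveI : Etale w := MorphismProperty.pullback_snd _ _ Xt.prop.2
  haveI : IsAffine Z := isAffine_of_isAffineHom (X := Z) (Y := Spec (CommRingCat.of K₀)) w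
  let E := Γ(Z, ⊤)
  let ψ := Spec.preimage (Z.isoSpec.inv ≫ w)
  letI : Algebra K₀ E := ψ.hom.toAlgebra
  let w' := Spec.map (CommRingCat.ofHom (algebraMap K₀ E))
  have hψ : w' = Z.isoSpec.inv ≫ w := Spec.map_preimage _
  haveI : Algebra.Etale K₀ E := RingHom.etale_algebraMap.1 ((HasRingHomProperty.Spec_iff (P := @Etale)).1
    (show Etale w' by rw [hψ]; infer_instance))
  let i : Spec (CommRingCat.of E) ⟶ Xt.left := Z.isoSpec.inv ≫ pullback.fst Xt.hom g
  have sq : IsPullback i w' Xt.hom g :=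
    (IsPullback.of_hasPullback Xt.hom g).of_iso Z.isoSpec (Iso.refl _) (Iso.refl _) (Iso.refl _)
      (by simp [i]) (by simp [hψ, w]) (by simp) (by simp)
  have hw : ∀ σ : Aut Xt, σ.hom.left ≫ Xt.hom = Xt.hom := fun σ => MorphismProperty.Over.w σ.hom
  let a : Aut Xt → (Spec (CommRingCat.of E) ⟶ Spec (CommRingCat.of E)) := fun σ =>
    sq.lift (i ≫ σ.hom.left) w' (by rw [Category.assoc, hw, sq.w])
  have ha₁ : ∀ σ, a σ ≫ i = i ≫ σ.hom.left := fun σ => sq.lift_fst _ _ _
  have ha₂ : ∀ σ, a σ ≫ w' = w' := fun σ => sq.lift_snd _ _ _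
  let e : Aut Xt → (E →ₐ[K₀] E) := fun σ =>
    { (Spec.preimage (a σ)).hom with
      commutes' := fun x => by
        have h : CommRingCat.ofHom (algebraMap K₀ E) ≫ Spec.preimage (a σ) = CommRingCat.ofHom (algebraMap K₀ E) :=
          Spec.map_injective (by rw [Spec.map_comp, Spec.map_preimage]; exact ha₂ σ)
        exact RingHom.congr_fun (congrArg CommRingCat.Hom.hom h) x }
  have hae : ∀ σ, Spec.map (CommRingCat.ofHom (e σ).toRingHom) = a σ := fun σ => Spec.map_preimage (a σ)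
  have hmul : ∀ σ τ, e (σ * τ) = (e τ).comp (e σ) := fun σ τ => by
    refine AlgHom.coe_ringHom_injective (congrArg CommRingCat.Hom.hom
      (Spec.map_injective (?_ : Spec.map (CommRingCat.ofHom (e (σ * τ)).toRingHom) =
        Spec.map (CommRingCat.ofHom (e σ).toRingHom ≫ CommRingCat.ofHom (e τ).toRingHom))))
    rw [Spec.map_comp, hae, hae, hae]
    refine sq.hom_ext ?_ ?_
    · rw [Category.assoc, ha₁, ha₁, ← Category.assoc (a τ), ha₁, Category.assoc]
      rfl
    · rw [Category.assoc, ha₂, ha₂, ha₂]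
  have hone : e 1 = AlgHom.id K₀ E := by
    refine AlgHom.coe_ringHom_injective (congrArg CommRingCat.Hom.hom
      (Spec.map_injective (?_ : Spec.map (CommRingCat.ofHom (e 1).toRingHom) = Spec.map (𝟙 (CommRingCat.of E)))))
    rw [Spec.map_id, hae]
    refine sq.hom_ext ?_ ?_
    · rw [ha₁, Category.id_comp]; exact Category.comp_id i
    · rw [ha₂, Category.id_comp]
  let ρ : Aut Xt →* (E ≃ₐ[K₀] E) := MonoidHom.mk'
    (fun σ => AlgEquiv.ofAlgHom (e σ⁻¹) (e σ) (by rw [← hmul, mul_inv_cancel, hone]) (by rw [← hmul, inv_mul_cancel, hone]))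
    fun σ τ => AlgEquiv.ext fun x => by
      show e (σ * τ)⁻¹ x = e σ⁻¹ (e τ⁻¹ x)
      rw [mul_inv_rev, hmul]
      rfl
  refine ⟨E, inferInstance, inferInstance, inferInstance, ρ, ?_, i, sq⟩
  intro Ω _ _ _ x y
  let ξ := Spec.map (CommRingCat.ofHom (algebraMap K₀ Ω)) ≫ g
  have hpt : ∀ z : E →ₐ[K₀] Ω, Spec.map (CommRingCat.ofHom z.toRingHom) ≫ w' = Spec.map (CommRingCat.ofHom (algebraMap K₀ Ω)) := by
    intro z
    rw [← Spec.map_comp, ← CommRingCat.ofHom_comp]
    exact congrArg (fun r => Spec.map (CommRingCat.ofHom r)) z.comp_algebraMap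
  let pt : (E →ₐ[K₀] Ω) → FEt.fiberObj ξ Xt := fun z =>
    ⟨Spec.map (CommRingCat.ofHom z.toRingHom) ≫ i, by
      rw [Category.assoc, sq.w, ← Category.assoc, hpt]⟩
  obtain ⟨σ, hσ⟩ := hgal Ω ξ (pt x) (pt y)
  refine ⟨σ⁻¹, AlgHom.coe_ringHom_injective (congrArg CommRingCat.Hom.hom
      (Spec.map_injective (?_ : Spec.map (CommRingCat.ofHom y.toRingHom) =
        Spec.map (CommRingCat.ofHom (e σ⁻¹⁻¹).toRingHom ≫ CommRingCat.ofHom x.toRingHom))))⟩
  rw [inv_inv, Spec.map_comp, hae]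
  refine sq.hom_ext ?_ ?_
  · rw [Category.assoc, ha₁]
    exact ((Category.assoc _ _ _).symm.trans (congrArg Subtype.val hσ)).symm
  · rw [Category.assoc, ha₂, hpt, hpt]

theorem specMap_comp_eq {V A B K : Type u} [CommRing V] [CommRing A] [CommRing B] [CommRing K] (a : A →+* B)
    (φ : V →+* A) (b : K →+* B) (ψ : V →+* K) (h : a.comp φ = b.comp ψ) :
    Spec.map (CommRingCat.ofHom a) ≫ Spec.map (CommRingCat.ofHom φ) =
      Spec.map (CommRingCat.ofHom b) ≫ Spec.map (CommRingCat.ofHom ψ) := by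
  rw [← Spec.map_comp, ← Spec.map_comp, ← CommRingCat.ofHom_comp, ← CommRingCat.ofHom_comp, h]

theorem exists_frac_lift {V K L : Type u} [CommRing V] [Field K] [Algebra V K] [IsFractionRing V K] [Field L]
    (g : V →+* L) (hg : Function.Injective g) : ∃ ρ : K →+* L, g = ρ.comp (algebraMap V K) :=
  ⟨IsFractionRing.lift hg, RingHom.ext fun v => (IsFractionRing.lift_algebraMap hg v).symm⟩

theorem away_uniformizer (S K : Type u) [CommRing S] [IsDomain S] [IsDiscreteValuationRing S] [Field K] [Algebra S K]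
    [IsFractionRing S K] (t : S) (ht : Irreducible t) : IsLocalization.Away t K := by
  have ht0 : algebraMap S K t ≠ 0 := fun h => ht.ne_zero (IsFractionRing.injective S K (h.trans (map_zero _).symm))
  refine IsLocalization.Away.mk t (isUnit_iff_ne_zero.2 ht0) (fun z => ?_)
    fun a b h => ⟨0, by rw [IsFractionRing.injective S K h]⟩
  obtain ⟨a, b, hb, rfl⟩ := IsFractionRing.div_surjective S z
  obtain ⟨k, u, hu⟩ := IsDiscreteValuationRing.eq_unit_mul_pow_irreducible (nonZeroDivisors.ne_zero hb) ht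
  refine ⟨k, a * (↑u⁻¹ : S), ?_⟩
  have hu0 : algebraMap S K (u : S) ≠ 0 := (u.isUnit.map (algebraMap S K)).ne_zero
  rw [hu, map_mul, map_mul, map_pow, show algebraMap S K (↑u⁻¹ : S) = (algebraMap S K (u : S))⁻¹ from
    eq_inv_of_mul_eq_one_left (by rw [← map_mul, Units.inv_mul, map_one])]
  field_simp

set_option maxHeartbeats 1000000 in
/-- The extension over a discrete valuation ring. -/
theorem exists_local_extension {X : Scheme.{u}} (Xt : FEt.Cat X)
    (hgal : ∀ (Ω : Type u) [Field Ω] [IsAlgClosed Ω] (ξ : Spec (CommRingCat.of Ω) ⟶ X) (s s' : FEt.fiberObj ξ Xt),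
      ∃ σ : Aut Xt, (FEt.fiber ξ).map σ.hom s = s')
    (n : ℕ) (hdeg : Nat.card (Aut Xt) = n)
    (A₀ K₀ S K : Type u) [CommRing A₀] [IsDomain A₀] [IsDiscreteValuationRing A₀] [Field K₀] [Algebra A₀ K₀]
    [IsFractionRing A₀ K₀] [CommRing S] [IsDomain S] [IsDiscreteValuationRing S] [Algebra A₀ S]
    [IsLocalHom (algebraMap A₀ S)] [Field K] [Algebra S K] [IsFractionRing S K] [Algebra K₀ K]
    (hinj : Function.Injective (algebraMap A₀ S))
    (hc : (algebraMap K₀ K).comp (algebraMap A₀ K₀) = (algebraMap S K).comp (algebraMap A₀ S))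
    (hn : ((n : ℕ) : ResidueField A₀) ≠ 0) (π : A₀) (hπ : Irreducible π) (t : S) (ht : Irreducible t)
    (hπt : algebraMap A₀ S π = t ^ n) (g : Spec (CommRingCat.of K₀) ⟶ X) :
    ∃ F : FEt.Cat (Spec (CommRingCat.of S)),
      Nonempty ((FEt.restrict (Spec.map (CommRingCat.ofHom (algebraMap S K)))).obj F ≅
        (FEt.restrict (Spec.map (CommRingCat.ofHom (algebraMap K₀ K)) ≫ g)).obj Xt) := by
  obtain ⟨E, _, _, _, ρ, htrans, i, sq⟩ := exists_algebra Xt g hgal
  subst hdeg
  let B := K ⊗[K₀] E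
  have hun : AbsAbh.UnramFactors S K B := unramFactors_root ρ htrans hinj hc hn π hπ t ht hπt
  obtain ⟨het, hfin⟩ := AbsAbh.etale_integralClosure S K B hun
  let C := integralClosure S B
  haveI : Algebra.Etale S C := het
  let w := Spec.map (CommRingCat.ofHom (algebraMap S C))
  have hw : FEt.prop w := ⟨(IsFinite.SpecMap_iff _).2 (RingHom.finite_algebraMap.2 hfin),
    (HasRingHomProperty.Spec_iff (P := @Etale)).2 (RingHom.etale_algebraMap.2 het)⟩
  refine ⟨MorphismProperty.Over.mk ⊤ w hw, ?_⟩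
  letI : Algebra C B := C.val.toRingHom.toAlgebra
  haveI : IsScalarTower S C B := IsScalarTower.of_algebraMap_eq fun _ => rfl
  haveI := away_uniformizer S K t ht
  haveI : Module.Finite K₀ E := Algebra.FormallyUnramified.finite_of_free K₀ E
  haveI : IsLocalization.Away (algebraMap S C t) B := by
    refine IsLocalization.Away.mk (algebraMap S C t) ?_ (fun b => ?_) fun c c' hcc => ?_
    · show IsUnit (algebraMap S B t)
      rw [IsScalarTower.algebraMap_apply S K B]
      exact (IsLocalization.Away.algebraMap_isUnit (S := K) t).map _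
    · obtain ⟨⟨_, k, rfl⟩, hk⟩ := IsIntegral.exists_multiple_integral_of_isLocalization (Submonoid.powers t) b
        (Algebra.IsIntegral.isIntegral (R := K) b)
      exact ⟨k, ⟨_, hk⟩, by
        show b * (algebraMap S B t) ^ k = t ^ k • b
        rw [Algebra.smul_def, map_pow, mul_comm]⟩
    · exact ⟨0, by rw [Subtype.ext hcc]⟩
  haveI : IsLocalization (Algebra.algebraMapSubmonoid C (Submonoid.powers t)) B := by
    rw [Algebra.algebraMapSubmonoid_powers]; infer_instance
  haveI : Algebra.IsPushout S K C B := (Algebra.isPushout_of_isLocalization (Submonoid.powers t) K C B).symm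
  let u := Spec.map (CommRingCat.ofHom (algebraMap C B))
  let b := Spec.map (CommRingCat.ofHom (algebraMap K B))
  let τ := Spec.map (CommRingCat.ofHom (Algebra.TensorProduct.includeRight : E →ₐ[K₀] B).toRingHom)
  have p₁ : IsPullback u b w (Spec.map (CommRingCat.ofHom (algebraMap S K))) :=
    (isPullback_SpecMap_of_isPushout _ _ _ _ (CommRingCat.isPushout_of_isPushout S K C B)).flip
  have p₂ : IsPullback (τ ≫ i) b Xt.hom (Spec.map (CommRingCat.ofHom (algebraMap K₀ K)) ≫ g) :=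
    IsPullback.paste_horiz (isPullback_SpecMap_of_isPushout _ _ _ _
      (CommRingCat.isPushout_tensorProduct K₀ K E)).flip sq
  refine ⟨MorphismProperty.Over.isoMk ((IsPullback.of_hasPullback _ _).isoIsPullback _ _ p₁ ≪≫
    p₂.isoIsPullback _ _ (IsPullback.of_hasPullback _ _)) ?_⟩
  show ((IsPullback.of_hasPullback w _).isoIsPullback _ _ p₁ ≪≫ p₂.isoIsPullback _ _ (IsPullback.of_hasPullback _ _)).hom
    ≫ pullback.snd Xt.hom _ = pullback.snd w _
  rw [Iso.trans_hom, Category.assoc, IsPullback.isoIsPullback_hom_snd, IsPullback.isoIsPullback_hom_snd]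

set_option maxHeartbeats 1000000 in
/-- Extension over the local rings of codimension one of the special fibre. -/
theorem exists_extension_stalk {V K V₁ : Type u} [CommRing V] [IsDomain V] [IsDiscreteValuationRing V] [Field K]
    [Algebra V K] [IsFractionRing V K] (ϖ : V) (hϖ : Irreducible ϖ) (n : ℕ) (hn : IsUnit (n : V))
    [CommRing V₁] [IsDomain V₁] [IsDiscreteValuationRing V₁] [Algebra V V₁]
    (r : V₁) (hr : Irreducible r) (hrn : r ^ n = algebraMap V V₁ ϖ)
    {X X₁ : Scheme.{u}} (f : X ⟶ Spec (CommRingCat.of V)) [Smooth f]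
    (q : X₁ ⟶ X) [Flat q] (s₁ : X₁ ⟶ Spec (CommRingCat.of V₁)) [Smooth s₁]
    (hqf : q ≫ f = s₁ ≫ Spec.map (CommRingCat.ofHom (algebraMap V V₁)))
    (Xt : FEt.Cat (pullback f (Spec.map (CommRingCat.ofHom (algebraMap V K)))))
    (hgal : ∀ (Ω : Type u) [Field Ω] [IsAlgClosed Ω]
      (ξ : Spec (CommRingCat.of Ω) ⟶ pullback f (Spec.map (CommRingCat.ofHom (algebraMap V K))))
      (s s' : FEt.fiberObj ξ Xt), ∃ σ : Aut Xt, (FEt.fiber ξ).map σ.hom s = s')
    (hdeg : Nat.card (Aut Xt) = n)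
    (U : X₁.Opens) (hU : ∀ x, x ∈ U ↔ (f (q x) : PrimeSpectrum V).asIdeal = ⊥)
    (p : U.toScheme ⟶ pullback f (Spec.map (CommRingCat.ofHom (algebraMap V K))))
    (hpj : p ≫ pullback.fst _ _ = U.ι ≫ q)
    (ξ : X₁) (hξ : ξ ∉ U) (hcl : f (q ξ) = IsLocalRing.closedPoint V) (hcl₁ : s₁ ξ = IsLocalRing.closedPoint V₁)
    (hd : ringKrullDim (X₁.presheaf.stalk ξ) = 1) :
    ∃ Yξ : FEt.Cat (Spec (X₁.presheaf.stalk ξ)),
      Nonempty ((FEt.restrict (pullback.snd U.ι (X₁.fromSpecStalk ξ))).obj Yξ ≅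
        (FEt.restrict (pullback.fst U.ι (X₁.fromSpecStalk ξ))).obj ((FEt.restrict p).obj Xt)) := by
  let η := Spec.map (CommRingCat.ofHom (algebraMap V K))
  let π₁ := Spec.map (CommRingCat.ofHom (algebraMap V V₁))
  let j := pullback.fst f η
  haveI : IsLocalization.Away ϖ K := away_uniformizer V K ϖ hϖ
  haveI : IsOpenImmersion η := IsOpenImmersion.of_isLocalization ϖ
  haveI : IsOpenImmersion j := MorphismProperty.pullback_fst _ _ inferInstance
  have hcond : ∀ x, f (q x) = π₁ (s₁ x) := fun x => by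
    rw [← Scheme.Hom.comp_apply, hqf, Scheme.Hom.comp_apply]
  let S := X₁.presheaf.stalk ξ
  let A₀ := X.presheaf.stalk (q ξ)
  obtain ⟨φ₁, hφ₁, -, -, hne₁, hdvr₁⟩ := stalk_props r hr s₁ ξ hcl₁
  obtain ⟨_, _, hirr₁⟩ := hdvr₁ hd.le
  obtain ⟨φ₀, hφ₀, hreg₀, hloc₀, hne₀, hdvr₀⟩ := stalk_props ϖ hϖ f (q ξ) hcl
  let θ : A₀ →+* S := (q.stalkMap ξ).hom
  have hsp : Spec.map (q.stalkMap ξ) ≫ X.fromSpecStalk (q ξ) = X₁.fromSpecStalk ξ ≫ q :=
    Scheme.SpecMap_stalkMap_fromSpecStalk q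
  have hcompat : θ.comp φ₀ = φ₁.comp (algebraMap V V₁) := congrArg CommRingCat.Hom.hom (Spec.map_injective
    (show Spec.map (CommRingCat.ofHom φ₀ ≫ q.stalkMap ξ) =
        Spec.map (CommRingCat.ofHom (algebraMap V V₁) ≫ CommRingCat.ofHom φ₁) by
      rw [Spec.map_comp, Spec.map_comp, hφ₀, hφ₁, Category.assoc, ← Category.assoc, hsp, Category.assoc,
        hqf]))
  letI : Algebra A₀ S := θ.toAlgebra
  haveI : Module.Flat A₀ S := Flat.stalkMap q ξ
  haveI : IsLocalHom (algebraMap A₀ S) := q.toLRSHom.prop ξ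
  haveI : Module.FaithfullyFlat A₀ S := Module.FaithfullyFlat.of_flat_of_isLocalHom
  have hinjθ : Function.Injective (algebraMap A₀ S) := FaithfulSMul.algebraMap_injective A₀ S
  haveI := hreg₀
  have hd₀ : ringKrullDim A₀ ≤ 1 := by
    haveI : (maximalIdeal S).LiesOver (maximalIdeal A₀) := ⟨(IsLocalRing.maximalIdeal_comap _).symm⟩
    rw [← hd, ← IsLocalRing.maximalIdeal_height_eq_ringKrullDim, ← IsLocalRing.maximalIdeal_height_eq_ringKrullDim,
      Ideal.height_eq_height_add_of_liesOver_of_hasGoingDown (maximalIdeal A₀) (maximalIdeal S)]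
    exact_mod_cast le_self_add
  obtain ⟨_, _, hirr₀⟩ := hdvr₀ hd₀
  let K₀ := FractionRing A₀
  let KS := FractionRing S
  let ι : K₀ →+* KS := IsFractionRing.lift (g := (algebraMap S KS).comp θ)
    ((IsFractionRing.injective S KS).comp hinjθ)
  letI : Algebra K₀ KS := ι.toAlgebra
  have hc : (algebraMap K₀ KS).comp (algebraMap A₀ K₀) = (algebraMap S KS).comp (algebraMap A₀ S) :=
    RingHom.ext fun a => IsFractionRing.lift_algebraMap ((IsFractionRing.injective S KS).comp hinjθ : Function.Injective ((algebraMap S KS).comp θ)) a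
  have hn₀ : ((n : ℕ) : ResidueField A₀) ≠ 0 := by
    rw [← map_natCast (residue A₀), ← map_natCast φ₀]
    exact ((hn.map φ₀).map (residue A₀)).ne_zero
  have hπt : algebraMap A₀ S (φ₀ ϖ) = φ₁ r ^ n := by
    rw [← map_pow, hrn]; exact RingHom.congr_fun hcompat ϖ
  have hinjV : Function.Injective ((algebraMap A₀ K₀).comp φ₀) := by
    refine (RingHom.injective_iff_ker_eq_bot _).2 ?_
    by_contra hk
    haveI : (RingHom.ker ((algebraMap A₀ K₀).comp φ₀)).IsPrime := RingHom.ker_isPrime _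
    have h1 := eq_maximalIdeal ((RingHom.ker_isPrime ((algebraMap A₀ K₀).comp φ₀)).isMaximal hk)
    have h2 : ϖ ∈ RingHom.ker ((algebraMap A₀ K₀).comp φ₀) := h1 ▸ hϖ.not_isUnit
    exact hne₀ (IsFractionRing.injective A₀ K₀ (h2.trans (map_zero _).symm))
  obtain ⟨ρK, hρ⟩ := exists_frac_lift (K := K) ((algebraMap A₀ K₀).comp φ₀) hinjV
  have hg : (Spec.map (CommRingCat.ofHom (algebraMap A₀ K₀)) ≫ X.fromSpecStalk (q ξ)) ≫ f =
      Spec.map (CommRingCat.ofHom ρK) ≫ η :=
    (Category.assoc _ _ _).trans ((congrArg (fun z => Spec.map (CommRingCat.ofHom (algebraMap A₀ K₀)) ≫ z) hφ₀.symm).trans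
      (specMap_comp_eq _ _ _ _ hρ))
  let g : Spec (CommRingCat.of K₀) ⟶ pullback f η :=
    pullback.lift (Spec.map (CommRingCat.ofHom (algebraMap A₀ K₀)) ≫ X.fromSpecStalk (q ξ))
      (Spec.map (CommRingCat.ofHom ρK)) hg
  obtain ⟨F, ⟨eF⟩⟩ := exists_local_extension Xt hgal n hdeg A₀ K₀ S KS hinjθ hc hn₀ (φ₀ ϖ) hirr₀ (φ₁ r) hirr₁
    hπt g
  let σ := Spec.map (CommRingCat.ofHom (algebraMap S KS))
  let fs := X₁.fromSpecStalk ξ
  have hbot : ∀ z : PrimeSpectrum KS, Ideal.comap (algebraMap S KS) z.asIdeal = ⊥ := fun z => by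
    rw [z.asIdeal.eq_bot_or_top.resolve_right z.2.ne_top]
    exact (RingHom.injective_iff_ker_eq_bot _).1 (IsFractionRing.injective S KS)
  have hmemU : ∀ y : PrimeSpectrum S, fs y ∈ U ↔ y.asIdeal = ⊥ := by
    intro y
    constructor
    · intro hy
      by_contra hne
      have : y = IsLocalRing.closedPoint S := PrimeSpectrum.ext (eq_maximalIdeal (y.2.isMaximal hne))
      rw [this] at hy
      exact hξ (by rwa [show fs (IsLocalRing.closedPoint S) = ξ from Scheme.fromSpecStalk_closedPoint] at hy)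
    · intro hy
      refine (hU _).2 ?_
      have h1 : f (q (fs y)) = π₁ (Spec.map (CommRingCat.ofHom φ₁) y) := by
        rw [hcond, ← Scheme.Hom.comp_apply, hφ₁]; rfl
      rw [h1]
      show Ideal.comap (algebraMap V V₁) (Ideal.comap φ₁ y.asIdeal) = ⊥
      rw [hy, Ideal.comap_comap, ← hcompat]
      show RingHom.ker (θ.comp φ₀) = ⊥
      refine (RingHom.injective_iff_ker_eq_bot _).1 (hinjθ.comp ?_)
      exact Function.Injective.of_comp (f := algebraMap A₀ K₀) hinjV
  have hsub : Set.range (σ ≫ fs) ⊆ Set.range U.ι := by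
    rw [Scheme.Opens.range_ι]
    rintro _ ⟨z, rfl⟩
    exact (hmemU _).2 (hbot z)
  let k := IsOpenImmersion.lift U.ι (σ ≫ fs) hsub
  have hk : k ≫ U.ι = σ ≫ fs := IsOpenImmersion.lift_fac _ _ _
  haveI : IsLocalization.Away (φ₁ r) KS := away_uniformizer S KS (φ₁ r) hirr₁
  haveI : IsOpenImmersion σ := IsOpenImmersion.of_isLocalization (φ₁ r)
  have pW : IsPullback k σ U.ι fs := by
    refine (IsOpenImmersion.isPullback k σ U.ι fs hk.symm ?_)
    ext y
    show fs y ∈ U.ι.opensRange ↔ y ∈ Set.range σ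
    rw [Scheme.Opens.opensRange_ι, hmemU]
    refine ⟨fun hy => ⟨(⟨⊥, Ideal.isPrime_bot⟩ : PrimeSpectrum KS), PrimeSpectrum.ext
      ((hbot (⟨⊥, Ideal.isPrime_bot⟩ : PrimeSpectrum KS)).trans hy.symm)⟩, ?_⟩
    rintro ⟨z, rfl⟩
    exact hbot z
  have hkp : k ≫ p = Spec.map (CommRingCat.ofHom (algebraMap K₀ KS)) ≫ g := by
    rw [← cancel_mono j, Category.assoc, Category.assoc, hpj, ← Category.assoc, hk, Category.assoc, ← hsp,
      pullback.lift_fst, ← Category.assoc, ← Category.assoc, ← Spec.map_comp, ← Spec.map_comp,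
      ← CommRingCat.ofHom_comp, hc]
    rfl
  let eW := (IsPullback.of_hasPullback U.ι fs).isoIsPullback _ _ pW
  have hW₁ : eW.hom ≫ k = pullback.fst U.ι fs := IsPullback.isoIsPullback_hom_fst _ _ _ _
  have hW₂ : eW.hom ≫ σ = pullback.snd U.ι fs := IsPullback.isoIsPullback_hom_snd _ _ _ _
  refine ⟨F, ⟨?_⟩⟩
  exact (MorphismProperty.Over.pullbackComp eW.hom σ (P := FEt.prop) (Q := ⊤) (pullback.snd U.ι fs) hW₂.symm).app F ≪≫
    (FEt.restrict eW.hom).mapIso (eF ≪≫ (MorphismProperty.Over.pullbackCongr (P := FEt.prop) (Q := ⊤) hkp.symm).app Xt ≪≫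
      (MorphismProperty.Over.pullbackComp k p (P := FEt.prop) (Q := ⊤)).app Xt) ≪≫
    ((MorphismProperty.Over.pullbackComp eW.hom k (P := FEt.prop) (Q := ⊤) (pullback.fst U.ι fs) hW₁.symm).app
      ((FEt.restrict p).obj Xt)).symm

set_option maxHeartbeats 2000000 in
/-- The statement at the level of schemes, with the base change abstract. -/
theorem exists_extension {V K V₁ : Type u} [CommRing V] [IsDomain V] [IsDiscreteValuationRing V] [Field K]
    [Algebra V K] [IsFractionRing V K] (ϖ : V) (hϖ : Irreducible ϖ) (n : ℕ) (hn : IsUnit (n : V))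
    [CommRing V₁] [IsDomain V₁] [IsDiscreteValuationRing V₁] [Algebra V V₁] [Module.Finite V V₁]
    (hinj : Function.Injective (algebraMap V V₁)) (r : V₁) (hr : Irreducible r) (hrn : r ^ n = algebraMap V V₁ ϖ)
    {X : Scheme.{u}} (f : X ⟶ Spec (CommRingCat.of V)) [Smooth f]
    (Xt : FEt.Cat (pullback f (Spec.map (CommRingCat.ofHom (algebraMap V K)))))
    (hgal : ∀ (Ω : Type u) [Field Ω] [IsAlgClosed Ω]
      (ξ : Spec (CommRingCat.of Ω) ⟶ pullback f (Spec.map (CommRingCat.ofHom (algebraMap V K))))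
      (s s' : FEt.fiberObj ξ Xt), ∃ σ : Aut Xt, (FEt.fiber ξ).map σ.hom s = s')
    (hdeg : Nat.card (Aut Xt) = n) :
    ∃ Y₁ : FEt.Cat (pullback f (Spec.map (CommRingCat.ofHom (algebraMap V V₁)))),
      Nonempty ((FEt.restrict (pullback.snd (pullback.fst f (Spec.map (CommRingCat.ofHom (algebraMap V K))))
          (pullback.fst f (Spec.map (CommRingCat.ofHom (algebraMap V V₁)))))).obj Y₁ ≅
        (FEt.restrict (pullback.fst (pullback.fst f (Spec.map (CommRingCat.ofHom (algebraMap V K))))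
          (pullback.fst f (Spec.map (CommRingCat.ofHom (algebraMap V V₁)))))).obj Xt) := by
  let η := Spec.map (CommRingCat.ofHom (algebraMap V K))
  let π₁ := Spec.map (CommRingCat.ofHom (algebraMap V V₁))
  let j := pullback.fst f η
  let q := pullback.fst f π₁
  let s₁ := pullback.snd f π₁
  haveI : IsLocalization.Away ϖ K := away_uniformizer V K ϖ hϖ
  haveI : IsOpenImmersion η := IsOpenImmersion.of_isLocalization ϖ
  haveI : IsOpenImmersion j := MorphismProperty.pullback_fst _ _ inferInstance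
  haveI : Smooth s₁ := MorphismProperty.pullback_snd _ _ inferInstance
  haveI : Module.IsTorsionFree V V₁ := Module.isTorsionFree_iff_algebraMap_injective.2 hinj
  haveI : Flat π₁ := (HasRingHomProperty.Spec_iff (P := @Flat)).2 (RingHom.flat_algebraMap_iff.2 inferInstance)
  haveI : Flat q := MorphismProperty.pullback_fst _ _ inferInstance
  haveI : IsLocallyNoetherian (pullback f π₁) := LocallyOfFiniteType.isLocallyNoetherian s₁
  let sn := pullback.snd j q
  haveI : IsOpenImmersion sn := MorphismProperty.pullback_snd _ _ inferInstance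
  let U := sn.opensRange
  let o := sn.isoOpensRange
  have ho : o.hom ≫ U.ι = sn := sn.isoOpensRange_hom_ι
  let p := o.inv ≫ pullback.fst j q
  have hpj : p ≫ j = U.ι ≫ q := by
    rw [← cancel_epi o.hom, ← Category.assoc o.hom U.ι, ho]
    simp only [p, Category.assoc, Iso.hom_inv_id_assoc]
    exact pullback.condition
  have hrange : ∀ y : PrimeSpectrum V, y ∈ Set.range η ↔ y.asIdeal = ⊥ := by
    intro y
    constructor
    · rintro ⟨z, rfl⟩
      show Ideal.comap (algebraMap V K) (z : PrimeSpectrum K).asIdeal = ⊥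
      rw [(z : PrimeSpectrum K).asIdeal.eq_bot_or_top.resolve_right (z : PrimeSpectrum K).2.ne_top]
      exact (RingHom.injective_iff_ker_eq_bot _).1 (IsFractionRing.injective V K)
    · intro hy
      refine ⟨(⟨⊥, Ideal.isPrime_bot⟩ : PrimeSpectrum K), PrimeSpectrum.ext ?_⟩
      rw [hy]
      exact (RingHom.injective_iff_ker_eq_bot _).1 (IsFractionRing.injective V K)
  have hU : ∀ x, x ∈ U ↔ (f (q x) : PrimeSpectrum V).asIdeal = ⊥ := fun x => by
    show x ∈ Set.range sn ↔ _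
    rw [Scheme.Pullback.range_snd, Set.mem_preimage, Scheme.Pullback.range_fst, Set.mem_preimage]
    exact hrange _
  have hcond : ∀ x, f (q x) = π₁ (s₁ x) := fun x => by
    rw [← Scheme.Hom.comp_apply, pullback.condition, Scheme.Hom.comp_apply]
  haveI : Algebra.IsIntegral V V₁ := Algebra.IsIntegral.of_finite V V₁
  have hclosed : ∀ x, x ∉ U → f (q x) = IsLocalRing.closedPoint V ∧ s₁ x = IsLocalRing.closedPoint V₁ := fun x hx => by
    have h1 : (f (q x) : PrimeSpectrum V).asIdeal ≠ ⊥ := fun h => hx ((hU x).2 h)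
    refine ⟨PrimeSpectrum.ext (eq_maximalIdeal ((f (q x) : PrimeSpectrum V).2.isMaximal h1)),
      PrimeSpectrum.ext (eq_maximalIdeal ((s₁ x : PrimeSpectrum V₁).2.isMaximal fun h => h1 ?_))⟩
    rw [hcond x]
    show Ideal.comap (algebraMap V V₁) (s₁ x : PrimeSpectrum V₁).asIdeal = ⊥
    rw [h]
    exact (RingHom.injective_iff_ker_eq_bot _).1 hinj
  have hdense : Dense (U : Set ↥(pullback f π₁)) := by
    intro x
    obtain ⟨z, hz, hz'⟩ := Flat.generalizingMap s₁
      ((PrimeSpectrum.le_iff_specializes (⟨⊥, Ideal.isPrime_bot⟩ : PrimeSpectrum V₁) (s₁ x)).1 bot_le)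
    refine mem_closure_iff_nhds.2 fun W hW => ?_
    refine ⟨z, mem_of_mem_nhds (hz hW), (hU z).2 ?_⟩
    rw [hcond z]
    show Ideal.comap (algebraMap V V₁) (s₁ z : PrimeSpectrum V₁).asIdeal = ⊥
    rw [hz']
    exact (RingHom.injective_iff_ker_eq_bot _).1 hinj
  have hreg : ∀ x, x ∉ U → IsRegularLocalRing ((pullback f π₁).presheaf.stalk x) := fun x hx => by
    obtain ⟨-, -, h, -⟩ := stalk_props r hr s₁ x (hclosed x hx).2
    exact h
  obtain ⟨Y₁, ⟨eY⟩⟩ := Groth.Agent.S0287.result U hdense ((FEt.restrict p).obj Xt) hreg fun ξ hξ hd =>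
    exists_extension_stalk ϖ hϖ n hn r hr hrn f q s₁ pullback.condition Xt hgal hdeg U hU p hpj ξ hξ
      (hclosed ξ hξ).1 (hclosed ξ hξ).2 hd
  refine ⟨Y₁, ⟨?_⟩⟩
  exact (MorphismProperty.Over.pullbackComp o.hom U.ι (P := FEt.prop) (Q := ⊤) sn ho.symm).app Y₁ ≪≫
    (FEt.restrict o.hom).mapIso eY ≪≫
    ((MorphismProperty.Over.pullbackComp o.hom p (P := FEt.prop) (Q := ⊤) (pullback.fst j q)
      (by simp [p])).app Xt).symm

end Groth.Agent.RootExt
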