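import Groth.Agent.GeomProp.SmoothLocal
import Groth.Agent.RegLoc.Order
import Groth.Agent.SerreReg.Regular

/-!
# Local rings of a smooth scheme over a discrete valuation ring at points of the special fibre
-/

set_option autoImplicit false
set_option backward.isDefEq.respectTransparency false

universe u

open CategoryTheory AlgebraicGeometry IsLocalRing

namespace Groth.Agent.RootExt

theorem isLocalization_stalk_bijective (V : Type u) [CommRing V] [IsLocalRing V] :
    Function.Bijective
      (StructureSheaf.toStalk V (IsLocalRing.closedPoint V : PrimeSpectrum V)).hom := by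
  letI := (StructureSheaf.toStalk V (IsLocalRing.closedPoint V : PrimeSpectrum V)).hom.toAlgebra
  let e := IsLocalization.atUnits V (IsLocalRing.closedPoint V).asIdeal.primeCompl
    (S := (Spec.structureSheaf V).presheaf.stalk (IsLocalRing.closedPoint V : PrimeSpectrum V))
    fun x hx => notMem_maximalIdeal.1 hx
  have he : ∀ x, e x = StructureSheaf.toStalk V (IsLocalRing.closedPoint V : PrimeSpectrum V) x := fun x => e.commutes x
  exact (funext he : (⇑e) = _) ▸ e.bijective

/-- The stalk of a smooth scheme at a point of the special fibre. -/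
theorem stalk_props {V : Type u} [CommRing V] [IsDomain V] [IsDiscreteValuationRing V] (ϖ : V) (hϖ : Irreducible ϖ)
    {X : Scheme.{u}} (f : X ⟶ Spec (CommRingCat.of V)) [Smooth f] (x : X)
    (hx : f x = IsLocalRing.closedPoint V) :
    ∃ φ : V →+* X.presheaf.stalk x, Spec.map (CommRingCat.ofHom φ) = X.fromSpecStalk x ≫ f ∧
      IsRegularLocalRing (X.presheaf.stalk x) ∧ IsLocalHom φ ∧ φ ϖ ≠ 0 ∧
      (ringKrullDim (X.presheaf.stalk x) ≤ 1 → ∃ (_ : IsDomain (X.presheaf.stalk x)),
        IsDiscreteValuationRing (X.presheaf.stalk x) ∧ Irreducible (φ ϖ)) := by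
  have hψ : Function.Bijective (StructureSheaf.toStalk V (f x : PrimeSpectrum V)).hom := by
    rw [show (f x : PrimeSpectrum V) = IsLocalRing.closedPoint V from hx]
    exact isLocalization_stalk_bijective V
  let ψ : V →+* (Spec (CommRingCat.of V)).presheaf.stalk (f x) := (StructureSheaf.toStalk V (f x)).hom
  let e : V ≃+* (Spec (CommRingCat.of V)).presheaf.stalk (f x) := RingEquiv.ofBijective ψ hψ
  let φ : V →+* X.presheaf.stalk x := (f.stalkMap x).hom.comp ψ
  refine ⟨φ, ?_, ?_⟩
  · have h : CommRingCat.ofHom φ = CommRingCat.ofHom ψ ≫ f.stalkMap x := rfl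
    rw [h, Spec.map_comp, ← Scheme.SpecMap_stalkMap_fromSpecStalk, Spec.fromSpecStalk_eq']
    rfl
  have hxs : x ∈ f.smoothLocus := SmDesc.mem_smoothLocus_of_smooth_ι (U := ⊤) f trivial
  obtain ⟨A, B, _, _, _, hAB, hN, q, _, eY, eX, hcomm⟩ := GeomProp.exists_local_model f x hxs
  haveI := hAB
  haveI : IsNoetherianRing A := hN inferInstance
  let p := q.comap (algebraMap A B)
  let e' : V ≃+* Localization.AtPrime p := e.trans eY
  haveI : IsDomain (Localization.AtPrime p) := e'.symm.toMulEquiv.isDomain V
  haveI : IsDiscreteValuationRing (Localization.AtPrime p) :=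
    IsDiscreteValuationRing.RingEquivClass.isDiscreteValuationRing e'
  haveI : IsRegularLocalRing (Localization.AtPrime p) :=
    IsRegularLocalRing.of_ringEquiv (R := V) e'
  haveI hregB : IsRegularLocalRing (Localization.AtPrime q) := (GeomProp.isRegular_iff_of_smooth (A := A) q).2 inferInstance
  haveI hreg : IsRegularLocalRing (X.presheaf.stalk x) := IsRegularLocalRing.of_ringEquiv eX.symm
  obtain ⟨hflat, hloc⟩ := GeomProp.localHom_setup_of_smooth A B q
  set L := Localization.localRingHom p q (algebraMap A B) rfl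
  have hφ : ∀ v, eX (φ v) = L (e' v) := fun v => hcomm (ψ v)
  have hLinj : Function.Injective L := by
    algebraize [L]
    haveI : IsLocalHom (algebraMap (Localization.AtPrime p) (Localization.AtPrime q)) := hloc
    haveI : Module.FaithfullyFlat (Localization.AtPrime p) (Localization.AtPrime q) :=
      Module.FaithfullyFlat.of_flat_of_isLocalHom
    exact FaithfulSMul.algebraMap_injective (Localization.AtPrime p) (Localization.AtPrime q)
  have hlocφ : IsLocalHom φ := ⟨fun v hv => (isUnit_map_iff e' v).1 (hloc.map_nonunit _ (hφ v ▸ hv.map eX))⟩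
  have hne : φ ϖ ≠ 0 := fun h => hϖ.ne_zero (e'.injective (hLinj (by rw [← hφ, h, map_zero, map_zero, map_zero])))
  refine ⟨hreg, hlocφ, hne, fun hdim => ?_⟩
  haveI := RegLoc.isDomain (A := X.presheaf.stalk x)
  refine ⟨inferInstance, ?_⟩
  have hnu : ¬ IsUnit (φ ϖ) := fun h => hϖ.not_isUnit (hlocφ.map_nonunit _ h)
  have hI : (Ideal.span {φ ϖ}).IsPrime := by
    have hm : maximalIdeal (Localization.AtPrime p) = Ideal.span {e' ϖ} := by
      refine (IsDiscreteValuationRing.irreducible_iff_uniformizer _).1 ?_
      exact (MulEquiv.irreducible_iff e').2 hϖ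
    have hmap : p.map (algebraMap A (Localization.AtPrime q)) = Ideal.span {eX (φ ϖ)} := by
      have hc : algebraMap A (Localization.AtPrime q) = L.comp (algebraMap A (Localization.AtPrime p)) := by
        ext a
        exact ((Localization.localRingHom_to_map p q (algebraMap A B) rfl a).trans
          (IsScalarTower.algebraMap_apply A B (Localization.AtPrime q) a).symm).symm
      rw [hc, ← Ideal.map_map, Localization.AtPrime.map_eq_maximalIdeal, hm, Ideal.map_span, Set.image_singleton, hφ]
    haveI := GeomProp.isRegularLocalRing_fibLocRing_of_smooth A B q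
    haveI : IsDomain (EGA4.FibLocRing A B q) := RegLoc.isDomain (A := EGA4.FibLocRing A B q)
    haveI h1 : (p.map (algebraMap A (Localization.AtPrime q))).IsPrime :=
      (Ideal.Quotient.isDomain_iff_prime _).1 ‹IsDomain (EGA4.FibLocRing A B q)›
    rw [hmap] at h1
    have : Ideal.span {φ ϖ} = (Ideal.span {eX (φ ϖ)}).comap eX := by
      rw [← Ideal.comap_map_of_bijective (I := Ideal.span {φ ϖ}) eX eX.bijective, Ideal.map_span,
        Set.image_singleton]
    rw [this]
    exact Ideal.IsPrime.comap _
  haveI := hI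
  have hmax : maximalIdeal (X.presheaf.stalk x) = Ideal.span {φ ϖ} := by
    by_contra hne'
    have hlt : Ideal.span {φ ϖ} < maximalIdeal (X.presheaf.stalk x) :=
      lt_of_le_of_ne ((Ideal.span_singleton_le_iff_mem _).2 hnu) (Ne.symm hne')
    haveI : (⊥ : Ideal (X.presheaf.stalk x)).IsPrime := Ideal.isPrime_bot
    have h1 := Ideal.height_add_one_le_of_lt_of_isPrime (bot_lt_iff_ne_bot.2 (fun h0 =>
      hne (Ideal.span_singleton_eq_bot.1 h0)) : (⊥ : Ideal (X.presheaf.stalk x)) < Ideal.span {φ ϖ})
    have h2 := Ideal.height_add_one_le_of_lt_of_isPrime hlt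
    have h3 : (maximalIdeal (X.presheaf.stalk x)).height ≤ 1 := by
      have := IsLocalRing.maximalIdeal_height_eq_ringKrullDim (R := X.presheaf.stalk x)
      rw [← this] at hdim
      exact_mod_cast hdim
    have h4 : (1 : ℕ∞) + 1 ≤ 1 := le_trans (le_trans (add_le_add_left (le_trans le_add_self h1) 1) h2) h3
    exact absurd h4 (by norm_num)
  haveI : IsPrincipalIdealRing (X.presheaf.stalk x) :=
    ((tfae_of_isNoetherianRing_of_isLocalRing_of_isDomain (R := X.presheaf.stalk x)).out 4 0).1
      (show (maximalIdeal _).IsPrincipal from ⟨⟨_, hmax⟩⟩)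
  haveI hd : IsDiscreteValuationRing (X.presheaf.stalk x) :=
    { not_a_field' := fun h => hne (Ideal.span_singleton_eq_bot.1 (hmax.symm.trans h)) }
  exact ⟨hd, (IsDiscreteValuationRing.irreducible_iff_uniformizer _).2 hmax⟩

end Groth.Agent.RootExt
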